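import Cfsg.Agent.U52.Defs

/-! # Transport of the frame along an embedding -/

set_option autoImplicit false

namespace Cfsg.Lib.U52

open Subgroup Cfsg.Lib.Trans Cfsg.Lib.Gold Cfsg.Lib.Local

variable {G H : Type*} [Group G] [Group H]

theorem mem8 {u v z x : G} (uu : u * u = z) (vv : v * v = z) (zz : z * z = 1)
    (vu : v * u = z * (u * v)) (hx : x ∈ closure {u, v}) :
    x ∈ [1, z, u, z * u, v, z * v, u * v, z * (u * v)] := by
  have uz : u * z = z * u := by rw [← uu, mul_assoc]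
  have vz : v * z = z * v := by rw [← vv, mul_assoc]
  have a1 : ∀ x, u * (u * x) = z * x := fun x => by rw [← mul_assoc, uu]
  have a2 : ∀ x, z * (z * x) = x := fun x => by rw [← mul_assoc, zz, one_mul]
  have a3 : ∀ x, u * (z * x) = z * (u * x) := fun x => by rw [← mul_assoc, uz, mul_assoc]
  have a4 : ∀ x, v * (z * x) = z * (v * x) := fun x => by rw [← mul_assoc, vz, mul_assoc]
  have a5 : ∀ x, v * (u * x) = z * (u * (v * x)) := fun x => by
    rw [← mul_assoc, vu, mul_assoc, mul_assoc]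
  have a6 : ∀ x, v * (v * x) = z * x := fun x => by rw [← mul_assoc, vv]
  have iu : u⁻¹ = z * u := inv_eq_of_mul_eq_one_right (by rw [a3, uu, zz])
  have iv : v⁻¹ = z * v := inv_eq_of_mul_eq_one_right (by rw [a4, vv, zz])
  induction hx using closure_induction_left with
  | one => simp
  | mul_left x hx y _ h =>
    simp only [List.mem_cons, List.not_mem_nil, or_false] at h
    rcases hx with rfl | rfl <;> rcases h with h | h | h | h | h | h | h | h <;>
      simp [h, uu, vv, uz, vz, vu, zz, a1, a2, a3, a4, a5, a6]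
  | inv_mul_cancel x hx y _ h =>
    simp only [List.mem_cons, List.not_mem_nil, or_false] at h
    rcases hx with rfl | rfl <;> rcases h with h | h | h | h | h | h | h | h <;>
      simp [h, iu, iv, mul_assoc, uu, vv, uz, vz, vu, zz, a1, a2, a3, a4, a5, a6]

theorem mem_Ns_zpowers [Finite G] {v z s : G} (vv : v * v = z) (zz : z * z = 1) (z1 : z ≠ 1)
    (sz : s * z = z * s) : s ∈ Ns (zpowers v) ↔ s * v = v * s ∨ s * v = z * (v * s) := by
  have vz : v * z = z * v := by rw [← vv, mul_assoc]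
  refine ⟨fun h => ?_, fun h => mem_normalizer_of_cj_le ?_⟩
  · obtain ⟨k, hk⟩ := mem_normalizer_conj h (mem_zpowers v)
    have e : s * v * s⁻¹ * (s * v * s⁻¹) = z := by rw [conj_mul, vv, sz, mul_inv_cancel_right]
    have v4 : v ^ (4 : ℤ) = 1 := by
      rw [← zz, ← vv]; norm_cast; simp only [pow_succ, pow_zero, one_mul, mul_assoc]
    have v2 : v ^ (2 : ℤ) = z := by rw [← vv]; norm_cast; exact sq v
    simp only [zpow_eq_zpow_emod k v4] at hk
    rw [← hk] at e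
    rw [← mul_assoc, ← mul_inv_eq_iff_eq_mul, ← mul_inv_eq_iff_eq_mul, ← hk]
    rcases (by omega : k % 4 = 0 ∨ k % 4 = 1 ∨ k % 4 = 2 ∨ k % 4 = 2 + 1) with a | a | a | a <;>
      simp only [a, zpow_add, v2, zpow_one, zpow_zero, mul_one, zz] at e ⊢
    exacts [absurd e.symm z1, by simp, absurd e.symm z1, by simp]
  · rw [cj_zpowers, zpowers_le]
    rcases h with h | h
    · rw [h, mul_inv_cancel_right]; exact mem_zpowers v
    · rw [h, ← mul_assoc, mul_inv_cancel_right, ← vv]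
      exact mul_mem (mul_mem (mem_zpowers v) (mem_zpowers v)) (mem_zpowers v)

theorem Fr.map {Q A : Subgroup G} {o : Fin 5 → G} (h : Fr ⊤ Q A o) {φ : G →* H}
    (hφ : Function.Injective φ) : Fr φ.range (Q.map φ) (A.map φ) (φ ∘ o) := by
  have mm : ∀ {K : Subgroup G} {x}, φ x ∈ K.map φ ↔ x ∈ K := mem_map_iff_mem hφ
  have e1 : ∀ {x}, φ x = 1 ↔ x = 1 := map_eq_one_iff φ hφ
  have nr : ∀ {K : Subgroup G} {s}, φ s ∈ Ns (K.map φ) ↔ s ∈ Ns K := fun {K s} =>
    ⟨fun a x => by simpa only [← map_mul, ← map_inv, SetLike.mem_coe, mm] using a (φ x),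
      fun a => le_normalizer_map φ ⟨s, a, rfl⟩⟩
  have cs : ∀ {K : Subgroup G} {s}, φ s ∈ Cs (K.map φ) ↔ s ∈ Cs K := fun {K s} =>
    ⟨fun a x hx => hφ (by simpa using a _ ⟨x, hx, rfl⟩), by
      rintro a _ ⟨x, hx, rfl⟩; rw [← map_mul, a x hx, map_mul]⟩
  have c1 : ∀ {u s}, φ s ∈ C1 (φ u) ↔ s ∈ C1 u := fun {u s} => by
    simp only [mem_centralizer_singleton_iff, ← map_mul, hφ.eq_iff]
  have iN : ∀ v, φ.range ⊓ Ns (zpowers (φ v)) = (⊤ ⊓ Ns (zpowers v)).map φ := fun v => by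
    rw [← MonoidHom.map_zpowers]
    exact le_antisymm (by rintro _ ⟨⟨x, rfl⟩, a⟩; exact mm.2 ⟨trivial, nr.1 a⟩)
      (by rintro _ ⟨x, a, rfl⟩; exact ⟨⟨x, rfl⟩, nr.2 a.2⟩)
  have ix : ∀ {M : Subgroup G} {M' : Subgroup H}, (∀ {x}, φ x ∈ M' ↔ x ∈ M) → IdxLeTwo M ⊤ →
      IdxLeTwo M' φ.range := fun k a => by
    rintro _ ⟨s, rfl⟩ _ ⟨t, rfl⟩
    simpa only [← map_mul, k] using a s trivial t trivial
  refine ⟨h.two.map φ |>.of_equiv (MulEquiv.subgroupCongr (MonoidHom.range_eq_map φ).symm),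
    map_le_range _ _, map_le_range _ _, ?_, ?_, fun i => mm.2 (h.o_mem i), hφ.comp h.o_inj,
    fun i => mt e1.1 (h.o_ne i), ?_, by rw [card_map_of_injective hφ, h.cardA], fun B a b c => ?_,
    ?_, ?_, mm.2 h.z_mem, ?_, by rw [card_map_of_injective hφ, h.cardQ],
    fun i a => mt mm.1 (h.notQ i a), ?_, ?_, fun i => ?_, ?_, ?_, ?_, fun i a => ?_, ?_, ?_, ?_,
    ix (by simp only [Function.comp, ← map_mul, c1, implies_true]) h.idxT, ?_, ?_, ?_, ?_, ?_⟩
  · rintro _ ⟨s, rfl⟩; exact nr.2 (h.Q_norm trivial)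
  · rintro _ ⟨s, rfl⟩; exact nr.2 (h.A_norm trivial)
  · rintro _ ⟨s, a, rfl⟩; rw [← map_mul, h.sqA s a, map_one]
  · rw [← map_comap_eq_self a] at c ⊢
    rw [h.uniq (B.comap φ) le_top (fun x hx => e1.1 (map_mul φ x x ▸ b _ hx))
      (card_map_of_injective hφ ▸ c)]
  · rintro _ ⟨s, rfl⟩; exact c1.2 (h.cen trivial)
  · rintro _ ⟨s, rfl⟩ a
    simpa only [Function.comp, e1, hφ.eq_iff] using h.cQ s trivial fun q hq =>
      hφ (by simpa using a _ ⟨q, hq, rfl⟩)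
  · rintro _ ⟨s, a, rfl⟩
    simpa only [Function.comp, ← map_mul, e1, hφ.eq_iff] using h.sqQ s a
  · simpa only [Function.comp, ← map_mul, mm] using h.pairQ
  · rintro _ ⟨s, rfl⟩
    simpa only [Function.comp, ← map_mul, e1, hφ.eq_iff, cs] using h.sqP s trivial
  · obtain ⟨p, -, a, b⟩ := h.root i
    exact ⟨_, ⟨p, rfl⟩, cs.2 a, by rw [← map_mul, b]; rfl⟩
  · rintro _ ⟨s, a, rfl⟩
    simpa only [Function.comp, ← map_mul, e1, hφ.eq_iff] using h.memA s a
  · simpa only [Function.comp, ← map_mul, hφ.eq_iff] using h.pair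
  · simpa only [Function.comp, ← map_mul, ne_eq, hφ.eq_iff] using h.pair_ne
  · obtain ⟨s, -, b⟩ := h.trans i a
    exact ⟨_, ⟨s, rfl⟩, by simpa using congrArg φ b⟩
  · rintro _ ⟨s, rfl⟩
    simpa only [← map_mul, e1, mm] using h.inv s trivial
  · rintro _ ⟨s, rfl⟩ a b
    obtain ⟨x, -, y, -, k⟩ := h.comm s trivial (e1.1 (map_mul φ s s ▸ a)) (mt mm.2 b)
    exact ⟨_, ⟨x, rfl⟩, _, ⟨y, rfl⟩, by
      simpa only [Function.comp, ← map_mul, e1, hφ.eq_iff] using k⟩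
  · rintro _ ⟨s, rfl⟩ a b
    obtain ⟨M, k, l⟩ := h.half s trivial (e1.1 (map_mul φ s s ▸ a)) (mt mm.2 b)
    refine ⟨M.map φ, ix mm k, ?_⟩
    rintro _ ⟨y, rfl⟩ c d
    exact (l y trivial (mm.1 c) (e1.1 (map_mul φ y y ▸ d))).imp mm.2 fun ⟨t, _, e⟩ =>
      ⟨_, ⟨t, rfl⟩, by simpa using congrArg φ e⟩
  · rintro _ ⟨s, rfl⟩ a
    rw [iN, card_map_of_injective hφ]
    exact h.nz_le s trivial (hφ (map_mul φ s s ▸ a))
  · rintro _ ⟨s, rfl⟩ a b
    rw [iN, card_map_of_injective hφ]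
    exact h.nz_ge s trivial (hφ (map_mul φ s s ▸ a)) (mt mm.2 b)
  · obtain ⟨Y, -, a, b⟩ := h.nz_Y
    refine ⟨Y.map φ, map_le_range _ _, card_map_of_injective hφ ▸ a, ?_⟩
    rintro _ ⟨s, rfl⟩ c d
    rw [iN]
    rintro _ ⟨e, he, rfl⟩
    simpa only [Function.comp, ← map_mul, e1, hφ.eq_iff, mm] using
      b s trivial (hφ (map_mul φ s s ▸ c)) (mt mm.2 d) e he
  · rintro _ ⟨s, rfl⟩
    simpa only [Function.comp, ← map_mul, mm] using h.top s trivial
  · rintro _ ⟨u, hu, rfl⟩ _ ⟨v, hv, rfl⟩ a b c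
    obtain ⟨s, -, k⟩ := h.q8 u hu v hv (hφ (map_mul φ u u ▸ a)) (hφ (map_mul φ v v ▸ b))
      fun e => c (by rw [← map_mul, e, map_mul])
    refine ⟨_, ⟨s, rfl⟩, ?_⟩
    rw [← Set.image_pair, ← MonoidHom.map_closure]
    simpa only [← map_mul, ← map_inv, mm, mem_inf, c1] using k

end Cfsg.Lib.U52
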