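import Cfsg.Agent.U52.ModT
import Cfsg.Agent.U52.ModM

/-! # The frame of a Sylow 2-subgroup of `U₅(2)` -/

set_option autoImplicit false

namespace Cfsg.Lib.U52

open Subgroup Cfsg.Lib.Trans Cfsg.Lib.Gold Cfsg.Lib.Local Cfsg.Lib.Spor
open Cfsg.Lib.Spor.U6 (fN_eq allN allN_iff)

instance instDecEqT : DecidableEq T := fun x y =>
  decidable_of_iff (Nat.beq x.1 y.1 = true) (Nat.beq_eq.to_iff.trans Fin.ext_iff.symm)

/-- the element with a given code -/
def oN (i : ℕ) : T := ⟨i % 1024, Nat.mod_lt _ (by decide)⟩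

instance (priority := low) instDecAllT (p : T → Prop) [DecidablePred p] : Decidable (∀ x, p x) :=
  decidable_of_iff (allN 1024 (fun i => decide (p (oN i))) = true) (by
    rw [allN_iff]
    exact ⟨fun h x => (Fin.ext (Nat.mod_eq_of_lt x.2) : oN x.1 = x) ▸ of_decide_eq_true (h x.1 x.2),
      fun h i _ => decide_eq_true (h _)⟩)

/-- membership in a list -/
def In (l : List T) (x : T) : Prop := x ∈ l

instance instDecIn (l : List T) (x : T) : Decidable (In l x) := inferInstanceAs (Decidable (x ∈ l))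

/-- elements with given codes -/
def els (l : List ℕ) : List T := l.map oN

theorem inv_eq (x : T) : x⁻¹ = x * x * (x * x) * (x * x * x) := Fin.ext (by
  change iv x.1 = _
  simp only [iv, fN_eq]; rfl)

/-- the subgroup of the codes avoiding a mask -/
def msk (M : ℕ) (h : ∀ x : T, Nat.land x.1 M = 0 → ∀ y : T, Nat.land y.1 M = 0 →
    Nat.land (x * y).1 M = 0 := by decide +kernel) : Subgroup T where
  carrier := {x | Nat.land x.1 M = 0}
  one_mem' := Nat.zero_and M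
  mul_mem' := fun a b => h _ a _ b
  inv_mem' := fun a => inv_eq _ ▸ h _ (h _ (h _ a _ a) _ (h _ a _ a)) _ (h _ (h _ a _ a) _ a)

instance instDecMsk (M : ℕ) (h) (x : T) : Decidable (x ∈ msk M h) :=
  inferInstanceAs (Decidable (Nat.land x.1 M = 0))

theorem card_msk {M n : ℕ} {h} (e : ((List.range 1024).filter fun i => Nat.land i M = 0).length = n) :
    Nat.card (msk M h) = n := by
  rw [← e, ← List.toFinset_card_of_nodup (List.nodup_range.filter _), ← Nat.card_eq_finsetCard]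
  exact Nat.card_congr ⟨fun x => ⟨x.1.1, by simpa using ⟨x.1.2, x.2⟩⟩,
    fun x => ⟨⟨x.1, by have := x.2; simp at this; exact this.1⟩,
      by have := x.2; simp at this; exact this.2⟩, fun _ => rfl, fun _ => rfl⟩

/-- the extraspecial subgroup -/
abbrev Q0 : Subgroup T := msk 704
/-- the elementary abelian subgroup -/
abbrev A0 : Subgroup T := msk 207
/-- a subgroup of order 64 -/
abbrev Y0 : Subgroup T := msk 195
/-- the transvections -/
def o0 : Fin 5 → T := ![el 256, el 512, el 784, el 800, el 816]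
/-- the central involution -/
abbrev z0 : T := el 256
/-- generators -/
abbrev gs : List T := els [1, 2, 4, 8, 16, 32, 64, 128, 256, 512]
/-- involutions of `Q` modulo the centre -/
abbrev iq : List T := els [0, 1, 2, 3, 16, 17, 22, 23, 26, 27, 30, 31, 32, 34, 37, 39, 41, 43, 45,
  47, 48, 51, 53, 54, 57, 58, 61, 62]
/-- elements of order four outside `Q` -/
abbrev u2 : List T := els [516, 520, 524, 532, 536, 540, 548, 552, 556, 564, 568, 572, 772, 776,
  780, 788, 792, 796, 804, 808, 812, 820, 824, 828]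

theorem eq_top' {H : Subgroup T} (h : ∀ x ∈ gs, x ∈ H) : H = ⊤ := eq_top fun x hx =>
  h x ((by decide +kernel : ∀ x : T, x.1 ∈ [1, 2, 4, 8, 16, 32, 64, 128, 256, 512] → x ∈ gs) x hx)

theorem z0_comm (x : T) : x * z0 = z0 * x := by revert x; decide +kernel

theorem zz0 : z0 * z0 = 1 := by decide

theorem nz {v s : T} (h : v * v = z0) :
    s ∈ ⊤ ⊓ Ns (zpowers v) ↔ s * v = v * s ∨ s * v = z0 * (v * s) :=
  (and_iff_right trivial).trans (mem_Ns_zpowers h zz0 (by decide) (z0_comm s))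

theorem v_mul (x y : T) : v (x * y).1 0 = v x.1 0 + v y.1 0 := by
  change v (mu _ _) 0 = _
  simp only [mu_eq _ y.2, v_xor, v_pk, add_zero]

/-- the subgroups of index two -/
def Ma (α : GF4) : Subgroup T where
  carrier := {x | v x.1 0 = 0 ∨ v x.1 0 = α}
  one_mem' := Or.inl rfl
  mul_mem' := fun {a b} h k => (by decide : ∀ α a b : GF4, a = 0 ∨ a = α → b = 0 ∨ b = α →
    a + b = 0 ∨ a + b = α) _ _ _ h k |>.imp (v_mul a b).trans (v_mul a b).trans
  inv_mem' := fun {a} h => by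
    have := v_mul a⁻¹ a
    rw [inv_mul_cancel] at this
    exact (by decide : ∀ α a b : GF4, a = 0 ∨ a = α → 0 = b + a → b = 0 ∨ b = α) _ _ _ h this

theorem idx_Ma {α : GF4} (h : α ≠ 0) : IdxLeTwo (Ma α) ⊤ := fun s _ t _ a b =>
  (by decide : ∀ α a b : GF4, α ≠ 0 → ¬ (a = 0 ∨ a = α) → ¬ (b = 0 ∨ b = α) →
    a + b = 0 ∨ a + b = α) _ _ _ h a b |>.imp (v_mul s t).trans (v_mul s t).trans

theorem inv0 : ∀ s : T, s * s = 1 → s ∈ A0 ∨ s ∈ iq ∨ z0 * s ∈ iq := by decide +kernel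

theorem mem_u2 : ∀ u : T, u * u = z0 → u ∉ Q0 → u ∈ u2 := by decide +kernel

theorem cardA0 : Nat.card A0 = 16 := card_msk (by decide +kernel)

theorem uniq0 {B : Subgroup T} (h : ∀ b ∈ B, b * b = 1) (hc : Nat.card B = 16) : B = A0 := by
  have cm : ∀ a ∈ B, ∀ b ∈ B, a * b = b * a := fun a ha b hb =>
    congrArg Subtype.val ((Tl.comm_of_sq h).is_comm.comm ⟨a, ha⟩ ⟨b, hb⟩)
  by_cases k : B ≤ Q0
  swap
  · obtain ⟨x, hx, hx'⟩ := SetLike.not_le_iff_exists.1 k
    exact eq_of_le_of_card_ge (fun y hy => (by decide +kernel : ∀ x : T, x ∉ Q0 → x * x = 1 →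
      ∀ y : T, x * y = y * x → y * y = 1 → y ∈ A0) x hx' (h x hx) y (cm x hx y hy) (h y hy))
      (by rw [hc, cardA0])
  exfalso
  have r : ∀ b ∈ B, ∃ c ∈ iq, b = c ∨ b = z0 * c := fun b hb => (by decide +kernel :
    ∀ b : T, b ∈ Q0 → b * b = 1 → ∃ c ∈ iq, b = c ∨ b = z0 * c) b (k hb) (h b hb)
  choose! f f1 f2 using r
  have cf : ∀ a ∈ B, ∀ b ∈ B, f a * f b = f b * f a := fun a ha b hb => by
    have k : ∀ {x y : T}, Commute (z0 * x) y → Commute x y := fun {x y} c => by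
      simpa using (Commute.inv_left (z0_comm y).symm).mul_left c
    have : Commute a b := cm a ha b hb
    rcases f2 a ha with e | e <;> rcases f2 b hb with e' | e' <;> rw [e, e'] at this
    exacts [this, (k this.symm).symm, k this, (k (k this).symm).symm]
  obtain ⟨x, y, l⟩ : ∃ x y : T, ∀ b ∈ B, In [1, x, y, x * y, z0 * (x * y)] (f b) := by
    by_cases a : ∃ x ∈ B, ∃ y ∈ B, f x ≠ 1 ∧ f y ≠ 1 ∧ f y ≠ f x
    · obtain ⟨x, hx, y, hy, a⟩ := a
      exact ⟨_, _, fun b hb => (by decide +kernel : ∀ x ∈ iq, ∀ y ∈ iq, x ≠ 1 ∧ y ≠ 1 ∧ y ≠ x →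
        x * y = y * x → ∀ w ∈ iq, x * w = w * x → y * w = w * y →
        In [1, x, y, x * y, z0 * (x * y)] w) _ (f1 x hx) _ (f1 y hy) a (cf x hx y hy) _ (f1 b hb)
        (cf x hx b hb) (cf y hy b hb)⟩
    by_cases a' : ∃ x ∈ B, f x ≠ 1
    · obtain ⟨x, hx, a'⟩ := a'
      exact ⟨f x, 1, fun b hb => by
        by_contra c
        exact a ⟨x, hx, b, hb, a', by simp_all [In]⟩⟩
    · exact ⟨1, 1, fun b hb => by simp_all [In]⟩
  have := Set.ncard_le_ncard (s := B) (t := (([1, x, y, x * y, z0, z0 * x, z0 * y,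
    z0 * (x * y)] : List T).toFinset : Set T)) fun b hb => by
      have := l b hb
      simp only [In, List.mem_cons, List.not_mem_nil, or_false] at this
      rcases f2 b hb with e | e <;> rcases this with a | a | a | a | a <;> rw [e, a] <;>
        simp [← mul_assoc z0 z0, zz0]
  rw [Set.ncard_coe_finset, ← Nat.card_coe_set_eq] at this
  exact absurd ((hc.symm.le.trans this).trans (List.toFinset_card_le _)) (by simp)

theorem nz_le0 {u : T} (h : u * u = z0) : Nat.card ↥(⊤ ⊓ Ns (zpowers u)) ≤ 256 := by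
  obtain ⟨g, -, k, -, a, b, c⟩ := (by decide +kernel : ∀ u : T, u * u = z0 → ∃ g ∈ gs, ∃ k ∈ gs,
    ¬ (g * u = u * g ∨ g * u = z0 * (u * g)) ∧ ¬ (k * u = u * k ∨ k * u = z0 * (u * k)) ∧
    ¬ (g⁻¹ * k * u = u * (g⁻¹ * k) ∨ g⁻¹ * k * u = z0 * (u * (g⁻¹ * k)))) u h
  rw [← nz h] at a b c
  generalize ⊤ ⊓ Ns (zpowers u) = N at *
  have e := N.card_mul_index
  have := Fintype.ofFinite (T ⧸ N)
  have : 2 < N.index := (Fintype.two_lt_card_iff.2 ⟨((1 : T) : T ⧸ N), g, k, by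
    simpa [QuotientGroup.eq] using a, by simpa [QuotientGroup.eq] using b, by
    simpa [QuotientGroup.eq] using c⟩).trans_eq Nat.card_eq_fintype_card.symm
  rw [card_T] at e
  by_contra d
  rw [show N.index = 3 by nlinarith] at e
  omega

theorem nz_ge0 {u : T} (h : u * u = z0) (h' : u ∉ Q0) : 256 ≤ Nat.card ↥(⊤ ⊓ Ns (zpowers u)) := by
  obtain ⟨a, b⟩ := (by decide +kernel : ∀ u ∈ u2, (∀ y : T, y ∈ Y0 → y * u = u * y ∨
    y * u = z0 * (u * y)) ∧ ∀ s : T, Nat.land s.1 828 = 0 → ∃ i : Fin 4, let t := (![1, el 64, el 128,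
      el 192] i)⁻¹ * s; t * u = u * t ∨ t * u = z0 * (u * t)) u (mem_u2 u h h')
  simp only [← nz h] at a b
  generalize ⊤ ⊓ Ns (zpowers u) = N at *
  have e := N.card_mul_index
  have : N.index ≤ Nat.card (Fin 4) := Nat.card_le_card_of_surjective
    (fun i => ((![1, el 64, el 128, el 192] i : T) : T ⧸ N)) fun s => by
      obtain ⟨s, rfl⟩ := QuotientGroup.mk_surjective s
      obtain ⟨k, l⟩ := (by decide +kernel : ∀ s : T, Nat.land (oN (Nat.land s.1 195)).1 828 = 0 ∧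
        (oN (Nat.land s.1 195))⁻¹ * s ∈ Y0) s
      obtain ⟨i, c⟩ := b _ k
      exact ⟨i, (QuotientGroup.eq.2 c).trans (QuotientGroup.eq.2 (a _ l))⟩
  rw [card_T] at e
  rw [Nat.card_fin] at this
  nlinarith

theorem Q0_of {s : T} : s ∈ iq ∨ z0 * s ∈ iq → s ∈ Q0 := by revert s; decide +kernel

theorem comm0 {x : T} (h : x * x = 1) (h' : x ∉ A0) : ∃ a ∈ (⊤ : Subgroup T), ∃ b ∈ (⊤ : Subgroup T),
    a * a = 1 ∧ b * b = 1 ∧ a * x = x * a ∧ b * x = x * b ∧ a * b = z0 * (b * a) := by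
  obtain ⟨a, ha, a1, b, hb, b1, c⟩ := (by decide +kernel : ∀ x : T, x ∈ Q0 → x * x = 1 → x ∉ A0 →
    ∃ a ∈ iq, a * x = x * a ∧ ∃ b ∈ iq, b * x = x * b ∧ a * b = z0 * (b * a)) x
    (Q0_of ((inv0 x h).resolve_left h')) h h'
  have k : ∀ a ∈ iq, a * a = 1 := by decide +kernel
  exact ⟨a, trivial, b, trivial, k a ha, k b hb, a1, b1, c⟩

theorem half0 {x : T} (h : x * x = 1) (h' : x ∉ A0) : ∃ M : Subgroup T, IdxLeTwo M ⊤ ∧
    ∀ y ∈ (⊤ : Subgroup T), y ∈ M → y * y = 1 → y ∈ A0 ∨ ∃ s ∈ (⊤ : Subgroup T), s * x * s⁻¹ = y := by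
  have q : ∀ s : T, s * s = 1 → s ∉ A0 → s ∈ Q0 ∧ v s.1 0 ≠ 0 := by decide +kernel
  refine ⟨Ma (v x.1 0), idx_Ma (q x h h').2, fun y _ a b => or_iff_not_imp_left.2 fun c => ?_⟩
  obtain ⟨s, -, e⟩ := (by decide +kernel : ∀ x : T, x ∈ Q0 → x * x = 1 → x ∉ A0 → ∀ y : T,
    y ∈ Q0 → v y.1 0 = v x.1 0 → y * y = 1 → ∃ s ∈ els [0, 64, 128, 192, 512, 576, 640, 704, 16,
      80, 144, 208, 528, 592, 656, 720, 32, 96, 160, 224, 544, 608, 672, 736], s * x = y * s) x
    (q x h h').1 h h' y (q y b c).1 (a.resolve_left (q y b c).2) b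
  exact ⟨s, trivial, mul_inv_eq_iff_eq_mul.2 e⟩

theorem idxT0 : IdxLeTwo (C1 (o0 1 * o0 2)) ⊤ := by
  have e : C1 (o0 1 * o0 2) = Ma 1 := ext fun s => mem_centralizer_singleton_iff.trans
    ((by decide +kernel : ∀ s : T, s * (o0 1 * o0 2) = o0 1 * o0 2 * s ↔
      v s.1 0 = 0 ∨ v s.1 0 = 1) s)
  exact e ▸ idx_Ma one_ne_zero

theorem q80 : ∀ u : T, u ∈ Q0 → u * u = z0 → ∀ w : T, w ∈ Q0 →
    w * w = z0 → u * w ≠ w * u → w * u = z0 * (u * w) ∧ ∃ s ∈ [(el 512, el 512), (el 64, el 576)],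
    ¬ (In [1, z0, u, z0 * u, w, z0 * w, u * w, z0 * (u * w)] (s.1 * u * s.2) ∧
      In [1, z0, u, z0 * u, w, z0 * w, u * w, z0 * (u * w)] (s.1 * w * s.2)) ∧ s.1⁻¹ = s.2 ∧
    ¬ ((s.1 * u * s.2 * u = u * (s.1 * u * s.2) ∧ s.1 * u * s.2 * w = w * (s.1 * u * s.2)) ∧
      s.1 * w * s.2 * u = u * (s.1 * w * s.2) ∧ s.1 * w * s.2 * w = w * (s.1 * w * s.2)) := by
  decide +kernel

theorem norm0 {M : ℕ} {h} (k : ∀ s ∈ gs, ∀ x : T, x ∈ msk M h → s * x * s⁻¹ ∈ msk M h) :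
    ⊤ ≤ Ns (msk M h) := (eq_top' fun s hs => mem_normalizer_fintype (k s hs)).ge

theorem cQ0 {s : T} (h : ∀ q ∈ Q0, q * s = s * q) : s = 1 ∨ s = z0 := by
  have a : ∀ s : T, (∀ q ∈ els [1, 2, 4, 8, 16, 32], q * s = s * q) → s = 1 ∨ s = z0 := by
    decide +kernel
  have b : ∀ q ∈ els [1, 2, 4, 8, 16, 32], q ∈ Q0 := by decide +kernel
  exact a s fun q hq => h q (b q hq)

theorem root0 : ∀ i : Fin 5, (∀ a : T, a ∈ A0 → a * ![el 4, el 64, el 68, el 72, el 76] i =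
    ![el 4, el 64, el 68, el 72, el 76] i * a) ∧ ![el 4, el 64, el 68, el 72, el 76] i *
    ![el 4, el 64, el 68, el 72, el 76] i = o0 i := by decide +kernel

theorem nzY0 : ∀ e : T, e ∉ Y0 → e * e = 1 ∨ e * e = z0 → ∀ u ∈ u2,
    ¬ (e * u = u * e ∨ e * u = z0 * (u * e)) := by decide +kernel

theorem fr0 : Fr ⊤ Q0 A0 o0 where
  two := (IsPGroup.of_card card_T).to_subgroup _
  Q_le := le_top
  A_le := le_top
  Q_norm := norm0 (by decide +kernel)
  A_norm := norm0 (by decide +kernel)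
  o_mem := by decide +kernel
  o_inj := by decide +kernel
  o_ne := by decide +kernel
  sqA := by decide +kernel
  cardA := cardA0
  uniq := fun _ _ => uniq0
  cen := fun s _ => mem_centralizer_singleton_iff.2 (z0_comm s)
  cQ := fun _ _ => cQ0
  z_mem := by decide +kernel
  sqQ := by decide +kernel
  cardQ := card_msk (by decide +kernel)
  notQ := by decide +kernel
  pairQ := by decide +kernel
  sqP := fun p _ h => (by decide +kernel : ∀ p : T, o0 1 * p = p * o0 1 → p * p = 1 ∨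
    ∃ i, p * p = o0 i) p (h _ (by decide +kernel : o0 1 ∈ A0))
  root := fun i => ⟨_, trivial, root0 i⟩
  memA := by decide +kernel
  pair := by decide +kernel
  pair_ne := by decide +kernel
  trans := fun i h => ⟨![1, 1, el 1, el 2, el 3] i, trivial, by revert i; decide +kernel⟩
  inv := fun s _ h => (inv0 s h).imp_right Q0_of
  comm := fun _ _ => comm0
  half := fun _ _ => half0
  idxT := idxT0
  nz_le := fun _ _ => nz_le0
  nz_ge := fun _ _ => nz_ge0
  nz_Y := ⟨Y0, le_top, card_msk (by decide +kernel), fun u _ h h' e he a => by_contra fun b =>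
    nzY0 e b a u (mem_u2 u h h') ((nz h).1 he)⟩
  top := fun s _ => (by decide +kernel : ∀ s : T, s ∉ Q0 → s * o0 1 ∈ Q0 ∨ s * s * o0 1 ∈ Q0) s
  q8 := fun u hu w hw a b c => by
    obtain ⟨d, s, -, e, f⟩ := q80 u hu a w hw b c
    refine ⟨s.1, trivial, fun k => e ?_, ?_⟩ <;> rw [← f.1] at *
    · exact ⟨mem8 a b zz0 d k.1, mem8 a b zz0 d k.2⟩
    · simpa only [mem_inf, mem_centralizer_singleton_iff] using f.2

theorem exists_fr {G : Type*} [Group G] {F : Type*} [Field F] [Fintype F] (hF : Fintype.card F = 4)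
    {S : Subgroup G} (P : Sylow 2 (Cfsg.PSU 5 F 2)) (e : S ≃* (P : Subgroup (Cfsg.PSU 5 F 2))) :
    ∃ Q A o, Fr S Q A o := by
  obtain ⟨φ, hφ, rfl⟩ := exists_emb hF P e
  exact ⟨_, _, _, fr0.map hφ⟩

end Cfsg.Lib.U52
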