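import Cfsg.Agent.Spor.U6Raw
import Cfsg.Agent.Class.HermSimple
import Cfsg.Agent.Class.FieldIso
import Cfsg.Agent.S0280

/-! # The Sylow 2-subgroup of `U₅(2)` as a group of codes -/

set_option autoImplicit false

namespace Cfsg.Lib.U52

open Cfsg.Lib.Spor Cfsg.Lib.Spor.GF4 Matrix
open Cfsg.Lib.Spor.U6 (fN fN_eq allN allN_iff anyL anyL_iff dg cj)

/-- the entry `(2, 4)` -/
def fF (y : ℕ) : ℕ := fN (dg y 3) fun e =>
  Nat.xor (Nat.shiftRight y 9) (Nat.shiftLeft (mulN e (cj e)) 1)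

/-- packing of the correction terms -/
def pk (b c t : ℕ) : ℕ := Nat.add (Nat.add (Nat.mul b 4) (Nat.mul c 16)) (Nat.mul t 256)

/-- the multiplication of codes -/
def mu (x y : ℕ) : ℕ := fN x fun x => fN y fun y => fN (dg x 0) fun a => fN (dg x 1) fun b =>
  fN (cj (dg y 0)) fun a' => fN (cj (dg y 1)) fun b' => fN (dg y 3) fun e => fN (cj e) fun e' =>
  fN (fF y) fun f => Nat.xor (Nat.xor x y) (pk (mulN a e) (Nat.xor (mulN a f) (mulN b e'))
    (Nat.add (Nat.land (Nat.xor (Nat.xor (mulN a (Nat.xor (Nat.xor (cj (dg y 2)) (mulN b' e))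
      (mulN a' f))) (mulN b (Nat.xor b' (mulN a' e')))) (mulN (dg x 2) a')) 1)
      (Nat.mul (Nat.land (mulN (dg x 3) e') 1) 2)))

/-- the inverse of a code -/
def iv (x : ℕ) : ℕ := fN x fun x => fN (mu x x) fun y => mu (mu y y) (mu y x)

/-- conjugation of the field -/
abbrev σ : GF4 →+* GF4 := frobenius GF4 2

/-- the digits of a code -/
def v (x i : ℕ) : GF4 := ofN (dg x i)

/-- real part -/
def re (a : GF4) : GF4 := a + w * (a + σ a)

/-- the entry `(2, 4)` -/
def vF (x : ℕ) : GF4 := v x 4 + σ (v x 4) + w * (v x 3 * σ (v x 3))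

/-- the entry `(1, 5)` -/
def vD (x : ℕ) : GF4 := re (v x 4) + w * (v x 1 * σ (v x 1) + v x 0 * σ (v x 2) + σ (v x 0) * v x 2)

/-- the matrix of a code -/
def mat (x : ℕ) : Matrix (Fin 5) (Fin 5) GF4 :=
  !![1, v x 0, v x 1, v x 2, vD x;
    0, 1, v x 3, vF x, σ (v x 2) + σ (v x 1) * v x 3 + σ (v x 0) * vF x;
    0, 0, 1, σ (v x 3), σ (v x 1) + σ (v x 0) * σ (v x 3); 0, 0, 0, 1, σ (v x 0); 0, 0, 0, 0, 1]

theorem val_v (x i : ℕ) : (v x i).val = dg x i :=
  val_ofN (Nat.and_lt_two_pow _ (n := 2) (by decide))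

theorem val_σ (a : GF4) : (σ a).val = cj a.val := by revert a; decide

theorem σσ (a : GF4) : σ (σ a) = a := by revert a; decide

theorem val_vF {y : ℕ} (h : y < 1024) : (vF y).val = fF y := Nat.eq_of_beq_eq_true
  (allN_iff.1 (by decide +kernel : allN 1024 (fun y => Nat.beq (vF y).val (fF y)) = true) y h)

theorem v_xor (a b i : ℕ) : v (Nat.xor a b) i = v a i + v b i := val_injective (by
  simp only [val_add, val_v, dg]
  exact (congrArg (· &&& 3) Nat.shiftRight_xor_distrib).trans Nat.and_xor_distrib_right)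

theorem v_pk (b c t : GF4) : pk b.val c.val t.val < 2 ^ 10 ∧ v (pk b.val c.val t.val) 0 = 0 ∧
    v (pk b.val c.val t.val) 1 = b ∧ v (pk b.val c.val t.val) 2 = c ∧
    v (pk b.val c.val t.val) 3 = 0 ∧ v (pk b.val c.val t.val) 4 = t := by
  revert b c t; decide +kernel

theorem mu_eq (x : ℕ) {y : ℕ} (h : y < 1024) : mu x y = Nat.xor (Nat.xor x y)
    (pk (v x 0 * v y 3).val (v x 0 * vF y + v x 1 * σ (v y 3)).val
      (re (v x 0 * (σ (v y 2) + σ (v y 1) * v y 3 + σ (v y 0) * vF y) +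
        v x 1 * (σ (v y 1) + σ (v y 0) * σ (v y 3)) + v x 2 * σ (v y 0)) +
        w * re (v x 3 * σ (v y 3))).val) := by
  rw [(by decide : ∀ a b : GF4, (re a + w * re b).val = Nat.add (Nat.land a.val 1)
    (Nat.mul (Nat.land b.val 1) 2))]
  simp only [mu, fN_eq, val_add, val_mul, val_σ, val_v, val_vF h]
  rfl

theorem mu_lt {x y : ℕ} (hx : x < 1024) (h : y < 1024) : mu x y < 1024 := by
  rw [mu_eq x h]
  exact Nat.xor_lt_two_pow (n := 10) (Nat.xor_lt_two_pow hx h) (v_pk _ _ _).1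

theorem mat_mu (x : ℕ) {y : ℕ} (h : y < 1024) : mat (mu x y) = mat x * mat y := by
  have h2 : (2 : GF4) = 0 := by decide
  have hf : vF y + σ (vF y) = v y 3 * σ (v y 3) := (by decide :
    ∀ t e : GF4, t + σ t + w * (e * σ e) + σ (t + σ t + w * (e * σ e)) = e * σ e) _ _
  have e0 : v (mu x y) 0 = v x 0 + v y 0 := by simp only [mu_eq x h, v_xor, v_pk, add_zero]
  have e1 : v (mu x y) 1 = v x 1 + v y 1 + v x 0 * v y 3 := by simp only [mu_eq x h, v_xor, v_pk]
  have e2 : v (mu x y) 2 = v x 2 + v y 2 + (v x 0 * vF y + v x 1 * σ (v y 3)) := by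
    simp only [mu_eq x h, v_xor, v_pk]
  have e3 : v (mu x y) 3 = v x 3 + v y 3 := by simp only [mu_eq x h, v_xor, v_pk, add_zero]
  have e4 := congrArg (v · 4) (mu_eq x h)
  simp only [v_xor, v_pk] at e4
  have eF : vF (mu x y) = vF x + vF y + v x 3 * σ (v y 3) := by
    rw [vF, e4, e3, vF, vF]
    exact (by decide +kernel : ∀ t t' e e' X : GF4, t + t' + (re X + w * re (e * σ e')) +
      σ (t + t' + (re X + w * re (e * σ e'))) + w * ((e + e') * σ (e + e')) = t + σ t +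
      w * (e * σ e) + (t' + σ t' + w * (e' * σ e')) + e * σ e') _ _ _ _ _
  have eD : vD (mu x y) = vD x + vD y + (v x 0 * (σ (v y 2) + σ (v y 1) * v y 3 +
      σ (v y 0) * vF y) + v x 1 * (σ (v y 1) + σ (v y 0) * σ (v y 3)) + v x 2 * σ (v y 0)) := by
    rw [vD, e4, (by decide +kernel : ∀ t t' X Y : GF4, re (t + t' + (re X + w * re Y)) =
      re t + re t' + re X), e0, e1, e2, vD, vD, re, re, re]
    simp only [map_add, map_mul, σσ]
    linear_combination w * (v x 0 * σ (v x 0)) * hf + w * (v x 1 * σ (v x 0) * σ (v y 3) +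
      v x 0 * v y 3 * σ (v x 1) + v x 0 * v y 3 * σ (v x 0) * σ (v y 3) + v x 0 *
      (σ (v y 2) + σ (v y 1) * v y 3 + σ (v y 0) * vF y) + v x 1 * (σ (v y 1) + σ (v y 0) *
      σ (v y 3)) + v x 2 * σ (v y 0) + σ (v x 0) * (v y 2 + v y 1 * σ (v y 3) + v y 0 * σ (vF y)) +
      σ (v x 1) * (v y 1 + v y 0 * v y 3) + σ (v x 2) * v y 0) * h2
  rw [mat, mat, mat, e0, e1, e2, e3, eF, eD]
  ext i j
  fin_cases i <;> fin_cases j <;> simp [mul_apply, Fin.sum_univ_five, σσ] <;> try ring1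
  · linear_combination σ (v x 0) * hf + (σ (v x 1) * v y 3 + σ (v x 0) * σ (v y 3) * v x 3 +
      σ (v x 0) * σ (v y 3) * v y 3) * h2
  · linear_combination σ (v x 0) * σ (v y 3) * h2

theorem mat_inj {x y : ℕ} (hx : x < 1024) (hy : y < 1024) (h : mat x = mat y) : x = y := by
  have k := fun x (hx : x < 1024) => Nat.eq_of_beq_eq_true (allN_iff.1 (by decide +kernel :
    allN 1024 (fun x => Nat.beq x ((mat x 0 1).val + 4 * (mat x 0 2).val + 16 * (mat x 0 3).val +
      64 * (mat x 1 2).val + 256 * (re (mat x 0 4)).val + 512 * (re (mat x 1 3)).val)) = true) x hx)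
  rw [k x hx, h, ← k y hy]

/-- The group of codes. -/
def T : Type := Fin 1024

instance instMulT : Mul T := ⟨fun x y => ⟨mu x.1 y.1, mu_lt x.2 y.2⟩⟩
instance instOneT : One T := ⟨⟨0, by decide⟩⟩
instance instInvT : Inv T := ⟨fun x => ⟨iv x.1, by
  simp only [iv, fN_eq]
  exact mu_lt (mu_lt (mu_lt x.2 x.2) (mu_lt x.2 x.2)) (mu_lt (mu_lt x.2 x.2) x.2)⟩⟩

theorem T.all {f : ℕ → Bool} (h : allN 1024 f = true) (x : T) : f x.1 = true := allN_iff.1 h _ x.2

instance instGroupT : Group T := Group.ofLeftAxioms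
  (fun x y z => Fin.ext (mat_inj (x * y * z).2 (x * (y * z)).2 (by
    change mat (mu (mu _ _) _) = mat (mu _ (mu _ _))
    rw [mat_mu _ z.2, mat_mu _ y.2, mat_mu _ (mu_lt y.2 z.2), mat_mu _ z.2, mul_assoc])))
  (fun x => Fin.ext (Nat.eq_of_beq_eq_true (T.all (f := fun x => Nat.beq (mu 0 x) x)
    (by decide +kernel) x)))
  fun x => Fin.ext (Nat.eq_of_beq_eq_true (T.all (f := fun x => Nat.beq (mu (iv x) x) 0)
    (by decide +kernel) x))

instance instFiniteT : Finite T := inferInstanceAs (Finite (Fin 1024))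

theorem card_T : Nat.card T = 2 ^ 10 := Nat.card_fin _

/-- the element with a given code -/
def el (n : ℕ) (h : n < 1024 := by decide) : T := ⟨n, h⟩

/-- a rank decreasing along a generator -/
def rk (x : ℕ) : ℕ := 256 * dg x 0 + 64 * dg x 3 + 16 * dg x 1 + 4 * dg x 2 + dg x 4

theorem eq_top {H : Subgroup T} (h : ∀ x : T, x.1 ∈ [1, 2, 4, 8, 16, 32, 64, 128, 256, 512] → x ∈ H) :
    H = ⊤ := by
  refine eq_top_iff.2 fun x _ => ?_
  induction hn : rk x.1 using Nat.strong_induction_on generalizing x with | _ n ih => ?_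
  have := T.all (f := fun x => Nat.beq x 0 || anyL [1, 2, 4, 8, 16, 32, 64, 128, 256, 512]
    fun g => Nat.blt (rk (mu x (iv g))) (rk x)) (by decide +kernel) x
  simp only [Bool.or_eq_true, Nat.beq_eq, anyL_iff, Nat.blt_eq] at this
  rcases this with e | ⟨g, hg, e⟩
  · exact (Fin.ext e : x = 1) ▸ one_mem H
  · have l : g < 1024 := (by decide : ∀ g ∈ [1, 2, 4, 8, 16, 32, 64, 128, 256, 512], g < 1024) g hg
    exact (mul_mem_cancel_right (inv_mem (h ⟨g, l⟩ hg))).1 (ih _ (hn ▸ e) _ trivial rfl)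

/-- an orthonormal basis -/
def pM : Matrix (Fin 5) (Fin 5) GF4 :=
  !![0, 0, 1, 0, 0; 0, w + 1, 0, 1, 0; 0, w, 0, 1, 0; w + 1, 0, 0, 0, 1; w, 0, 0, 0, 1]

/-- the inverse matrix -/
def pM' : Matrix (Fin 5) (Fin 5) GF4 :=
  !![0, 0, 0, 1, 1; 0, 1, 1, 0, 0; 1, 0, 0, 0, 0; 0, w, w + 1, 0, 0; 0, 0, 0, w, w + 1]

/-- The unitary representation. -/
def rep : T →* Matrix (Fin 5) (Fin 5) GF4 where
  toFun x := pM * mat x.1 * pM'
  map_one' := by decide +kernel
  map_mul' x y := by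
    change pM * mat (mu _ _) * pM' = _
    rw [mat_mu _ y.2]
    calc _ = pM * mat x.1 * (pM' * pM) * mat y.1 * pM' := by
          rw [show pM' * pM = 1 by decide +kernel, mul_one, ← mul_assoc pM]
      _ = _ := by simp only [mul_assoc]

theorem exists_hom {F : Type*} [Field F] [Fintype F] (hF : Fintype.card F = 4) :
    ∃ χ : T →* PSU 5 F 2, Function.Injective χ := by
  let ρ : T →* SpecialLinearGroup (Fin 5) GF4 := MonoidHom.mk' (fun x => ⟨rep x,
    (by decide +kernel : ∀ u : GF4, u ^ 2 ^ 10 = 1 → u = 1) _ (by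
      rw [← det_pow, ← map_pow, ← card_T, pow_card_eq_one', map_one, det_one])⟩)
    fun x y => Subtype.ext (map_mul rep x y)
  have hρ : ∀ x, ρ x ∈ SU 5 GF4 2 := fun x => (eq_top (H := (SU 5 GF4 2).comap ρ) fun x hx u u' => by
    have : (rep x)ᵀ * (rep x).map σ = 1 := by
      have := (by decide +kernel : ∀ n ∈ [1, 2, 4, 8, 16, 32, 64, 128, 256, 512],
        (pM * mat n * pM')ᵀ * (pM * mat n * pM').map σ = 1)
      exact this _ hx
    change rep x *ᵥ u ⬝ᵥ σ ∘ (rep x *ᵥ u') = u ⬝ᵥ σ ∘ u'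
    rw [show σ ∘ (rep x *ᵥ u') = (rep x).map σ *ᵥ (σ ∘ u') from funext fun i =>
      RingHom.map_mulVec σ _ _ i, ← vecMul_transpose, ← dotProduct_mulVec, mulVec_mulVec, this,
      one_mulVec]).ge (Subgroup.mem_top x)
  obtain ⟨e⟩ := nonempty_ringEquiv hF
  refine ⟨(Class.psuEquiv 5 2 e).toMonoidHom.comp ((QuotientGroup.mk' _).comp
    (ρ.codRestrict _ hρ)), (Class.psuEquiv 5 2 e).injective.comp (Function.Injective.comp
      (g := QuotientGroup.mk' _) (f := ρ.codRestrict _ hρ)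
      ((MonoidHom.ker_eq_bot_iff _).1 ?_) fun x y h => Fin.ext (mat_inj x.2 y.2 ?_))⟩
  · rw [QuotientGroup.ker_mk', ← Subgroup.card_eq_one, Class.Form.card_center_SU (q := 2) rfl 5
      (by norm_num)]
    rfl
  · have k : ∀ x, mat x = pM' * (pM * mat x * pM') * pM := fun x => by
      rw [← mul_assoc, ← mul_assoc, mul_assoc _ pM', show pM' * pM = 1 by decide +kernel, one_mul,
        mul_one]
    rw [k, k y.1]
    exact congrArg (pM' * · * pM) (congrArg (·.1.1) h)

theorem exists_emb {G : Type*} [Group G] {F : Type*} [Field F] [Fintype F] (hF : Fintype.card F = 4)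
    {S : Subgroup G} (P : Sylow 2 (PSU 5 F 2)) (e : S ≃* (P : Subgroup (PSU 5 F 2))) :
    ∃ φ : T →* G, Function.Injective φ ∧ φ.range = S := by
  obtain ⟨χ, hχ⟩ := exists_hom hF
  have c : Nat.card (PSU 5 F 2) = 13685760 := by
    have := Cfsg.Agent.S0280.result (F := F) (q := 2) hF 5 (by norm_num)
    norm_num [Finset.prod_range_succ, Nat.even_iff] at this
    exact Nat.eq_of_mul_eq_mul_left three_pos this
  have : Finite (PSU 5 F 2) := Nat.finite_of_card_ne_zero (by rw [c]; norm_num)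
  let f := (MonoidHom.ofInjective hχ).trans ((Sylow.equiv (Sylow.ofCard χ.range (by
    rw [← Nat.card_congr (MonoidHom.ofInjective hχ).toEquiv, card_T, c]
    rw [show 13685760 = 2 ^ 10 * 13365 from rfl, Nat.factorization_mul (by norm_num) (by norm_num),
      Nat.Prime.factorization_pow Nat.prime_two, Finsupp.add_apply, Finsupp.single_eq_same,
      Nat.factorization_eq_zero_of_not_dvd (by norm_num)])) P).trans e.symm)
  exact ⟨S.subtype.comp f.toMonoidHom, S.subtype_injective.comp f.injective, by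
    rw [MonoidHom.range_comp, MonoidHom.range_eq_top.2 f.surjective, ← MonoidHom.range_eq_map,
      Subgroup.range_subtype]⟩

end Cfsg.Lib.U52
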